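import Cfsg.Agent.GaschutzYen.Omega
import Cfsg.Agent.Components.CoprimeKer
import Cfsg.Prelude.Def_Local

/-!
Gaschütz–Yen: a p-soluble group, p odd, whose automorphisms permute the subgroups of order p
transitively has p-length one.
-/

set_option linter.style.haveILetI false
set_option linter.unusedSectionVars false

namespace Cfsg.Lib.GaschutzYen

open Subgroup

universe u

variable {G : Type u} [Group G] [Finite G] {p : ℕ} [hp : Fact p.Prime]

theorem map_pCore_aut (α : MulAut G) : (pCore p G).map α.toMonoidHom ≤ pCore p G := by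
  haveI : ((pCore p G).map α.toMonoidHom).Normal :=
    (Cfsg.Lib.Components.pCore_normal' p).map _ α.surjective
  exact Cfsg.Lib.Components.le_pCore ((Cfsg.Lib.Components.isPGroup_pCore p).map _)

theorem map_pPrimeCore_aut (α : MulAut G) :
    (pPrimeCore p G).map α.toMonoidHom ≤ pPrimeCore p G := by
  haveI : ((pPrimeCore p G).map α.toMonoidHom).Normal :=
    (Cfsg.Lib.Components.pPrimeCore_normal' p).map _ α.surjective
  refine Cfsg.Lib.Components.le_pPrimeCore ?_
  rw [Nat.card_congr ((pPrimeCore p G).equivMapOfInjective _ α.injective).toEquiv.symm]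
  exact Cfsg.Lib.Components.coprime_card_pPrimeCore p

theorem isPSolvable_quotient (N : Subgroup G) [N.Normal] (h : IsPSolvable p G) :
    IsPSolvable p (G ⧸ N) := by
  obtain ⟨n, H, h0, h1, hmono, hn, hf⟩ := h
  refine ⟨n, fun i => (H i).map (QuotientGroup.mk' N), by show (H 0).map _ = ⊥; rw [h0, Subgroup.map_bot],
    by show (H (Fin.last n)).map _ = ⊤; rw [h1, Subgroup.map_top_of_surjective _ (QuotientGroup.mk'_surjective N)],
    fun i j hij => Subgroup.map_mono (hmono hij),
    fun i => (hn i).map _ (QuotientGroup.mk'_surjective N), fun i => ?_⟩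
  have hd : ((H i.castSucc).map (QuotientGroup.mk' N)).relIndex ((H i.succ).map (QuotientGroup.mk' N))
      ∣ (H i.castSucc).relIndex (H i.succ) := by
    set A := H i.castSucc
    set B := H i.succ
    have hAB : A ≤ B := hmono (Fin.castSucc_le_succ i)
    haveI : (A.subgroupOf B).Normal := (hn _).subgroupOf B
    have hsub : (A.subgroupOf B).map ((QuotientGroup.mk' N).subgroupMap B) =
        (A.map (QuotientGroup.mk' N)).subgroupOf (B.map (QuotientGroup.mk' N)) := by
      ext ⟨y, hy⟩
      simp only [Subgroup.mem_map, Subgroup.mem_subgroupOf]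
      constructor
      · rintro ⟨x, hx, he⟩; exact ⟨x, hx, congrArg Subtype.val he⟩
      · rintro ⟨x, hx, he⟩; exact ⟨⟨x, hAB hx⟩, hx, Subtype.ext he⟩
    show ((A.map (QuotientGroup.mk' N)).subgroupOf (B.map (QuotientGroup.mk' N))).index ∣ _
    rw [← hsub]
    exact Subgroup.index_map_dvd _ ((QuotientGroup.mk' N).subgroupMap_surjective B)
  rcases hf i with ⟨m, hm⟩ | hc
  · obtain ⟨k, -, hk⟩ := (Nat.dvd_prime_pow hp.out).mp (hm ▸ hd)
    exact Or.inl ⟨k, hk⟩
  · exact Or.inr (hc.coprime_dvd_left hd)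

/-- a non-trivial p-soluble group has a non-trivial normal p- or p'-subgroup -/
theorem exists_core_ne_bot [Nontrivial G] (h : IsPSolvable p G) :
    pCore p G ≠ ⊥ ∨ pPrimeCore p G ≠ ⊥ := by
  classical
  obtain ⟨n, H, h0, h1, hmono, hn, hf⟩ := h
  obtain ⟨i, hi, hi'⟩ : ∃ i : Fin n, H i.castSucc = ⊥ ∧ H i.succ ≠ ⊥ := by
    by_contra hcon
    push Not at hcon
    have : ∀ i : Fin (n + 1), H i = ⊥ := Fin.induction h0 fun i hi => hcon i hi
    exact top_ne_bot (h1 ▸ this (Fin.last n))
  haveI := hn i.succ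
  have hcard := hf i
  rw [hi, relIndex_bot_left] at hcard
  rcases hcard with ⟨m, hm⟩ | hc
  · exact Or.inl fun h => hi' (le_bot_iff.mp (h ▸ Cfsg.Lib.Components.le_pCore (IsPGroup.of_card hm)))
  · exact Or.inr fun h => hi' (le_bot_iff.mp (h ▸ Cfsg.Lib.Components.le_pPrimeCore hc))

set_option maxHeartbeats 800000 in
/-- the heart: the case `O_{p'}(G) = 1` -/
theorem core_index_coprime (hp2 : p ≠ 2) (hsol : IsPSolvable p G) (hK : pPrimeCore p G = ⊥)
    (htrans : ∀ U V : Subgroup G, Nat.card U = p → Nat.card V = p →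
      ∃ a : MulAut G, U.map a.toMonoidHom = V) :
    ¬ p ∣ (pCore p G).index := by
  intro hdvd
  set Q := pCore p G with hQdef
  have hQp : IsPGroup p Q := Cfsg.Lib.Components.isPGroup_pCore p
  haveI : Nontrivial G := Finite.one_lt_card_iff_nontrivial.mp
    (lt_of_lt_of_le hp.out.one_lt
      (Nat.le_of_dvd Nat.card_pos (hdvd.trans (Subgroup.index_dvd_card Q))))
  have hQne : Q ≠ ⊥ := (exists_core_ne_bot hsol).resolve_right (fun h => h hK)
  -- all elements of order `p` lie in `V = Ω₁(Z(Q))`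
  have homega : ∀ x : G, x ^ p = 1 → x ∈ Q ∧ ∀ q ∈ Q, q * x = x * q := by
    intro x hx
    by_cases hx1 : x = 1
    · subst hx1; exact ⟨one_mem _, fun q _ => by simp⟩
    haveI : Nontrivial Q := (nontrivial_iff_ne_bot Q).mpr hQne
    haveI := hQp.center_nontrivial
    obtain ⟨k, hk⟩ := IsPGroup.iff_card.mp (hQp.to_subgroup (center Q))
    have hk0 : k ≠ 0 := fun h => (Finite.one_lt_card (α := center Q)).ne' (by rw [hk, h, pow_zero])
    obtain ⟨z, hz⟩ := exists_prime_orderOf_dvd_card' (G := center Q) p (hk ▸ dvd_pow_self p hk0)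
    have hzo : orderOf ((z : Q) : G) = p := by rw [Subgroup.orderOf_coe, Subgroup.orderOf_coe, hz]
    obtain ⟨a, ha⟩ := htrans (zpowers ((z : Q) : G)) (zpowers x)
      (by rw [Nat.card_zpowers, hzo]) (by rw [Nat.card_zpowers, orderOf_eq_prime hx hx1])
    obtain ⟨w, hw, hwx⟩ := ha.ge (mem_zpowers x)
    obtain ⟨i, rfl⟩ := mem_zpowers_iff.mp hw
    have hzQ : ((z : Q) : G) ^ i ∈ Q := zpow_mem (z : Q).2 i
    refine ⟨hwx ▸ map_pCore_aut a ⟨_, hzQ, rfl⟩, fun q hq => ?_⟩
    have hq' : a⁻¹ q ∈ Q := map_pCore_aut a⁻¹ ⟨q, hq, rfl⟩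
    have hc : Commute (a⁻¹ q) ((z : Q) : G) :=
      congrArg Subtype.val (mem_center_iff.mp z.2 (⟨_, hq'⟩ : Q))
    have := congrArg a (hc.zpow_right i).eq
    rw [← hwx]
    simpa [map_mul] using this
  -- the p'-part above `Q`
  haveI : Nontrivial (G ⧸ Q) := Finite.one_lt_card_iff_nontrivial.mp
    (lt_of_lt_of_le hp.out.one_lt
      (Nat.le_of_dvd Nat.card_pos (by rwa [← Subgroup.index_eq_card])))
  set π := QuotientGroup.mk' Q with hπ
  have hπs : Function.Surjective π := QuotientGroup.mk'_surjective Q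
  have hcap : pCore p (G ⧸ Q) = ⊥ := by
    have hle : (pCore p (G ⧸ Q)).comap π ≤ Q :=
      Cfsg.Lib.Components.le_pCore ((Cfsg.Lib.Components.isPGroup_pCore p).comap_of_ker_isPGroup π
        (by rw [hπ, QuotientGroup.ker_mk']; exact hQp))
    rw [eq_bot_iff, ← Subgroup.map_comap_eq_self_of_surjective hπs (pCore p (G ⧸ Q))]
    exact (Subgroup.map_mono hle).trans (QuotientGroup.map_mk'_self Q).le
  set K := (pPrimeCore p (G ⧸ Q)).comap π with hKdef
  have hQK : Q ≤ K := fun x hx => by
    refine Subgroup.mem_comap.mpr ?_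
    rw [hπ, QuotientGroup.mk'_apply, (QuotientGroup.eq_one_iff x).mpr hx]; exact one_mem _
  have hKne : K ≠ Q := fun h => by
    have hne := (exists_core_ne_bot (isPSolvable_quotient Q hsol)).resolve_left (fun h => h hcap)
    refine hne ?_
    rw [← Subgroup.map_comap_eq_self_of_surjective hπs (pPrimeCore p (G ⧸ Q)), ← hKdef, h, hπ,
      QuotientGroup.map_mk'_self]
  have hKidx : Q.relIndex K = Nat.card (pPrimeCore p (G ⧸ Q)) := by
    have h1 : (π.ker).relIndex K = Nat.card (K.map π) := Subgroup.relIndex_ker K π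
    have hker : π.ker = Q := QuotientGroup.ker_mk' Q
    have hmap : K.map π = pPrimeCore p (G ⧸ Q) :=
      Subgroup.map_comap_eq_self_of_surjective hπs _
    rw [hker, hmap] at h1
    exact h1
  have hKcop : (Q.relIndex K).Coprime p := hKidx ▸ Cfsg.Lib.Components.coprime_card_pPrimeCore p
  obtain ⟨k, hk⟩ := IsPGroup.iff_card.mp hQp
  obtain ⟨R', hR'⟩ := Subgroup.exists_right_complement'_of_coprime (N := Q.subgroupOf K) (by
    rw [Nat.card_congr (subgroupOfEquivOfLe hQK).toEquiv, hk]
    exact (Nat.Coprime.pow_left k hKcop.symm))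
  set R := R'.map K.subtype with hRdef
  have hRK : R ≤ K := map_subtype_le _
  have hRcard : Nat.card R = Q.relIndex K := by
    rw [Nat.card_congr (R'.equivMapOfInjective _ K.subtype_injective).toEquiv.symm,
      ← hR'.symm.index_eq_card]; rfl
  have hRcop : (Nat.card R).Coprime p := hRcard ▸ hKcop
  have hQR : Q ⊔ R = K := by
    have h := congrArg (Subgroup.map K.subtype) hR'.sup_eq_top
    rwa [Subgroup.map_sup, map_subgroupOf_eq_of_le hQK, ← MonoidHom.range_eq_map, range_subtype] at h
  have hQRd : Q ⊓ R = ⊥ := by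
    refine disjoint_iff.mp (Subgroup.disjoint_def.mpr fun {x} hxQ hxR => ?_)
    obtain ⟨j, hj⟩ := IsPGroup.iff_orderOf.mp hQp ⟨x, hxQ⟩
    rw [Subgroup.orderOf_mk] at hj
    exact orderOf_eq_one_iff.mp (Nat.eq_one_of_dvd_coprimes (hRcop.pow_right j)
      (Subgroup.orderOf_dvd_natCard R hxR) hj.dvd)
  -- automorphisms preserve `K`
  have hKinv : ∀ a : MulAut G, ∀ x ∈ K, a x ∈ K := by
    intro a x hx
    haveI : K.Normal := inferInstance
    haveI : (K.map a.toMonoidHom).Normal := (inferInstance : K.Normal).map _ a.surjective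
    have hsub : (K.map a.toMonoidHom).map π ≤ pPrimeCore p (G ⧸ Q) := by
      haveI : ((K.map a.toMonoidHom).map π).Normal :=
        (inferInstance : (K.map a.toMonoidHom).Normal).map _ hπs
      refine Cfsg.Lib.Components.le_pPrimeCore ?_
      rw [← Subgroup.relIndex_ker (K.map a.toMonoidHom) π, hπ, QuotientGroup.ker_mk']
      have hQa : Q.map a.toMonoidHom = Q := eq_of_le_of_card_ge (map_pCore_aut a)
        (Nat.card_congr (Q.equivMapOfInjective _ a.injective).toEquiv).le
      rw [← hQa, Subgroup.relIndex_map_map_of_injective Q K a.injective]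
      exact hKcop
    exact hsub ⟨a x, ⟨x, hx, rfl⟩, rfl⟩
  -- `R` moves some element of order `p`
  have hmove : ¬ ∀ q ∈ Q, q ^ p = 1 → ∀ r ∈ R, r * q = q * r := by
    intro hall
    have hRn : R ≤ normalizer (Q : Set G) := fun r _ => by
      rw [normalizer_eq_top]; exact mem_top r
    have hc := le_centralizer_of_omega hp2 _ rfl hQp hRn hRcop hall
    have hKn : K ≤ normalizer (R : Set G) := by
      rw [← hQR]
      refine sup_le (fun q hq => ?_) le_normalizer
      exact centralizer_le_normalizer (R : Set G)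
        (mem_centralizer_iff.mpr fun r hr => (mem_centralizer_iff.mp (hc hr) q hq).symm)
    have hRnormal : R.Normal := by
      haveI : (R.subgroupOf K).Normal := normal_subgroupOf_of_le_normalizer hKn
      refine ⟨fun x hx g => ?_⟩
      have hgx : g * x * g⁻¹ ∈ K := (inferInstance : K.Normal).conj_mem x (hRK hx) g
      have hidx : (R.subgroupOf K).index = p ^ k := by
        have h1 := (R.subgroupOf K).card_mul_index
        rw [Nat.card_congr (subgroupOfEquivOfLe hRK).toEquiv] at h1
        have h2 := relIndex_mul_relIndex ⊥ Q K bot_le hQK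
        rw [relIndex_bot_left, relIndex_bot_left, ← hRcard, hk, ← h1, mul_comm (p ^ k)] at h2
        exact (Nat.eq_of_mul_eq_mul_left Nat.card_pos h2).symm
      have hord : (orderOf (g * x * g⁻¹)).Coprime p := by
        rw [show g * x * g⁻¹ = MulAut.conj g x from rfl, MulEquiv.orderOf_eq]
        exact Nat.Coprime.coprime_dvd_left (Subgroup.orderOf_dvd_natCard R hx) hRcop
      have h3 : QuotientGroup.mk' (R.subgroupOf K) ⟨_, hgx⟩ = 1 := by
        refine orderOf_eq_one_iff.mp (Nat.eq_one_of_dvd_coprimes (hord.pow_right k) ?_ ?_)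
        · exact (orderOf_map_dvd _ _).trans (by rw [Subgroup.orderOf_mk])
        · rw [← hidx, Subgroup.index_eq_card]; exact orderOf_dvd_natCard _
      exact (QuotientGroup.eq_one_iff (N := R.subgroupOf K) ⟨_, hgx⟩).mp h3
    haveI := hRnormal
    have hR0 : R = ⊥ := le_bot_iff.mp (hK ▸ Cfsg.Lib.Components.le_pPrimeCore hRcop)
    exact hKne (by rw [← hQR, hR0, sup_bot_eq])
  -- hence no non-identity element of `Q` centralises `R`
  have hfree : ∀ y ∈ Q, (∀ r ∈ R, r * y = y * r) → y = 1 := by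
    intro y hy hyR
    by_contra hy1
    obtain ⟨j, hj⟩ := IsPGroup.iff_orderOf.mp hQp ⟨y, hy⟩
    rw [Subgroup.orderOf_mk] at hj
    have hj0 : j ≠ 0 := fun h => hy1 (orderOf_eq_one_iff.mp (by rw [hj, h, pow_zero]))
    set u := y ^ p ^ (j - 1) with hu
    have huo : orderOf u = p := by
      rw [hu, orderOf_pow_of_dvd (pow_ne_zero _ hp.out.ne_zero) (hj ▸ pow_dvd_pow p (Nat.sub_le j 1)),
        hj, Nat.pow_div (Nat.sub_le j 1) hp.out.pos, Nat.sub_sub_self (Nat.pos_of_ne_zero hj0), pow_one]
    obtain ⟨-, huQ⟩ := homega u (by rw [← huo, pow_orderOf_eq_one])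
    have huK : K ≤ centralizer ({u} : Set G) := by
      rw [← hQR]
      refine sup_le (fun q hq => mem_centralizer_singleton_iff.mpr (huQ q hq)) fun r hr => ?_
      exact mem_centralizer_singleton_iff.mpr ((show Commute r y from hyR r hr).pow_right _).eq
    refine hmove fun q hq hqp r hr => ?_
    by_cases hq1 : q = 1
    · rw [hq1, mul_one, one_mul]
    obtain ⟨a, ha⟩ := htrans (zpowers u) (zpowers q)
      (by rw [Nat.card_zpowers, huo]) (by rw [Nat.card_zpowers, orderOf_eq_prime hqp hq1])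
    obtain ⟨w, hw, hwq⟩ := ha.ge (mem_zpowers q)
    obtain ⟨i, rfl⟩ := mem_zpowers_iff.mp hw
    have hc : Commute (a⁻¹ r) u :=
      mem_centralizer_singleton_iff.mp (huK (hKinv a⁻¹ r (hRK hr)))
    have := congrArg a (hc.zpow_right i).eq
    rw [← hwq]
    simpa [map_mul] using this
  -- Frattini argument
  have hsolR : Group.IsSolvable Q := by haveI := hQp.isNilpotent; infer_instance
  have hfr : ∀ g : G, ∃ q ∈ Q, q⁻¹ * g ∈ normalizer (R : Set G) := fun g => by
    obtain ⟨q, hq, he⟩ := Cfsg.Lib.Coprime.exists_conj_eq_of_coprime (N := Q) (H := R)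
      (K := R.map (MulAut.conj g).toMonoidHom)
      (fun r _ => by rw [normalizer_eq_top]; exact mem_top r)
      (by rw [hk]; exact (hRcop.pow_right k).symm) (Or.inl hsolR)
      (by
        rw [hQR]
        rintro _ ⟨r, hr, rfl⟩
        exact (inferInstance : K.Normal).conj_mem r (hRK hr) g)
      (Nat.card_congr (R.equivMapOfInjective _ (MulAut.conj g).injective).toEquiv).symm
    refine ⟨q, hq, mem_normalizer_iff.mpr fun x => ⟨fun hx => ?_, fun hx => ?_⟩⟩
    · obtain ⟨r, hr, her⟩ := he.le ⟨x, hx, rfl⟩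
      have her' : q * r * q⁻¹ = g * x * g⁻¹ := her
      have : q⁻¹ * g * x * (q⁻¹ * g)⁻¹ = r := by
        calc q⁻¹ * g * x * (q⁻¹ * g)⁻¹ = q⁻¹ * (g * x * g⁻¹) * q := by group
          _ = r := by rw [← her']; group
      rwa [this]
    · obtain ⟨r, hr, her⟩ := he.ge ⟨q⁻¹ * g * x * (q⁻¹ * g)⁻¹, hx, rfl⟩
      have her' : g * r * g⁻¹ = q * (q⁻¹ * g * x * (q⁻¹ * g)⁻¹) * q⁻¹ := her
      have : r = x := by
        calc r = g⁻¹ * (g * r * g⁻¹) * g := by group
          _ = x := by rw [her']; group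
      rwa [← this]
  have hsup : Q ⊔ normalizer (R : Set G) = ⊤ := eq_top_iff.mpr fun g _ => by
    obtain ⟨q, hq, hn⟩ := hfr g
    simpa using mul_mem_sup hq hn
  have hinf : Q ⊓ normalizer (R : Set G) = ⊥ := le_bot_iff.mp fun y ⟨hy, hyn⟩ => by
    refine mem_bot.mpr (hfree y hy fun r hr => ?_)
    have h1 : r * y * r⁻¹ * y⁻¹ ∈ Q ⊓ R := by
      refine mem_inf.mpr ⟨mul_mem ((inferInstance : Q.Normal).conj_mem y hy r) (inv_mem hy), ?_⟩
      have h2 := mul_mem hr ((mem_normalizer_iff.mp hyn r⁻¹).mp (inv_mem hr))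
      simpa [mul_assoc] using h2
    rw [hQRd, mem_bot] at h1
    calc r * y = (r * y * r⁻¹ * y⁻¹) * (y * r) := by group
      _ = y * r := by rw [h1, one_mul]
  have hcard : Nat.card (normalizer (R : Set G)) = Q.index := by
    have h1 := Cfsg.Lib.Coprime.card_sup_mul_card_inf (N := Q) (H := normalizer (R : Set G))
      (fun g _ => by rw [normalizer_eq_top]; exact mem_top g)
    rw [hsup, hinf, card_top, card_bot, mul_one, ← Q.card_mul_index] at h1
    exact (Nat.eq_of_mul_eq_mul_left Nat.card_pos h1).symm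
  obtain ⟨⟨t, ht⟩, hto⟩ := exists_prime_orderOf_dvd_card' (G := normalizer (R : Set G)) p (hcard ▸ hdvd)
  rw [Subgroup.orderOf_mk] at hto
  have htQ := (homega t (by rw [← hto, pow_orderOf_eq_one])).1
  have : t ∈ Q ⊓ normalizer (R : Set G) := ⟨htQ, ht⟩
  rw [hinf, mem_bot] at this
  exact hp.out.one_lt.ne (by rw [← hto, this, orderOf_one])

theorem pLengthLE_one (hp2 : p ≠ 2) (hG : IsPSolvable p G)
    (htrans : ∀ U V : Subgroup G, Nat.card U = p → Nat.card V = p →
      ∃ a : MulAut G, U.map a.toMonoidHom = V) : PLengthLE p 1 G := by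
  set N := pPrimeCore p G with hNdef
  set π := QuotientGroup.mk' N with hπ
  have hπs : Function.Surjective π := QuotientGroup.mk'_surjective N
  have hcore : pPrimeCore p (G ⧸ N) = ⊥ := by
    have hle : (pPrimeCore p (G ⧸ N)).comap π ≤ N := by
      refine Cfsg.Lib.Components.le_pPrimeCore ?_
      have h1 := relIndex_mul_relIndex ⊥ π.ker ((pPrimeCore p (G ⧸ N)).comap π) bot_le
        (fun x hx => by
          refine Subgroup.mem_comap.mpr ?_
          rw [MonoidHom.mem_ker.mp hx]; exact one_mem _)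
      rw [relIndex_bot_left, relIndex_bot_left, relIndex_ker,
        map_comap_eq_self_of_surjective hπs, hπ, QuotientGroup.ker_mk'] at h1
      rw [← h1]
      exact Nat.Coprime.mul_left (Cfsg.Lib.Components.coprime_card_pPrimeCore p)
        (Cfsg.Lib.Components.coprime_card_pPrimeCore p)
    rw [eq_bot_iff, ← Subgroup.map_comap_eq_self_of_surjective hπs (pPrimeCore p (G ⧸ N))]
    exact (Subgroup.map_mono hle).trans (QuotientGroup.map_mk'_self N).le
  have hlift : ∀ U : Subgroup (G ⧸ N), Nat.card U = p →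
      ∃ U' : Subgroup G, Nat.card U' = p ∧ U'.map π = U := by
    intro U hU
    have hd : p ∣ Nat.card (U.comap π) := by
      have h1 := Subgroup.card_map_dvd (U.comap π) π
      rwa [Subgroup.map_comap_eq_self_of_surjective hπs, hU] at h1
    obtain ⟨⟨x, hx⟩, hxo⟩ := exists_prime_orderOf_dvd_card' (G := U.comap π) p hd
    rw [Subgroup.orderOf_mk] at hxo
    refine ⟨zpowers x, by rw [Nat.card_zpowers, hxo], ?_⟩
    rw [MonoidHom.map_zpowers]
    refine eq_of_le_of_card_ge (zpowers_le.mpr hx) ?_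
    have hpow : (π x) ^ p = 1 := by
      have e := pow_orderOf_eq_one x
      rw [hxo] at e
      rw [← map_pow, e, map_one]
    have hne : π x ≠ 1 := fun h1 => by
      have hxN : x ∈ N := (QuotientGroup.eq_one_iff x).mp h1
      exact hp.out.one_lt.ne' (Nat.eq_one_of_dvd_coprimes
        (Cfsg.Lib.Components.coprime_card_pPrimeCore p) (hxo ▸ Subgroup.orderOf_dvd_natCard N hxN) dvd_rfl)
    rw [hU, Nat.card_zpowers, orderOf_eq_prime hpow hne]
  have hq := core_index_coprime (G := G ⧸ N) hp2 (isPSolvable_quotient N hG) hcore fun U V hU hV => by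
    obtain ⟨U', hU', rfl⟩ := hlift U hU
    obtain ⟨V', hV', rfl⟩ := hlift V hV
    obtain ⟨a, ha⟩ := htrans U' V' hU' hV'
    have hNa : N.map a.toMonoidHom = N := eq_of_le_of_card_ge (map_pPrimeCore_aut a)
      (Nat.card_congr (N.equivMapOfInjective _ a.injective).toEquiv).le
    refine ⟨QuotientGroup.congr N N a hNa, ?_⟩
    rw [← ha, Subgroup.map_map, Subgroup.map_map]
    rfl
  -- the upper p-series
  have key1 : ∀ (U : Subgroup G) [U.Normal], U = ⊥ →
      (pPrimeCore p (G ⧸ U)).comap (QuotientGroup.mk' U) = N := by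
    intro U _ hU
    refine Cfsg.Lib.Components.comap_pPrimeCore_of_coprime_ker (QuotientGroup.mk'_surjective U) ?_
    rw [QuotientGroup.ker_mk', hU, card_bot]
    exact Nat.coprime_one_left p
  have hU1 : (upperPSeries p G 1).1 = N := key1 _ rfl
  have key : ∀ (U : Subgroup G) [U.Normal], U = N →
      (pCore p (G ⧸ U)).comap (QuotientGroup.mk' U) = (pCore p (G ⧸ N)).comap π := by
    intro U _ hU; subst hU; rfl
  have hU2 : (upperPSeries p G 2).1 = (pCore p (G ⧸ N)).comap π := key _ hU1
  show (upperPSeries p G 3).1 = ⊤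
  have key3 : ∀ (U : Subgroup G) [U.Normal], U = (pCore p (G ⧸ N)).comap π →
      (pPrimeCore p (G ⧸ U)).comap (QuotientGroup.mk' U) = ⊤ := by
    intro U _ hU
    rw [eq_top_iff]
    intro x _
    have htop : (⊤ : Subgroup (G ⧸ U)) ≤ pPrimeCore p (G ⧸ U) := Cfsg.Lib.Components.le_pPrimeCore (by
      rw [card_top, ← Subgroup.index_eq_card, hU, Subgroup.index_comap_of_surjective _ hπs]
      exact (hp.out.coprime_iff_not_dvd.mpr hq).symm)
    exact htop (mem_top _)
  exact key3 _ hU2

end Cfsg.Lib.GaschutzYen
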