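import Cfsg.Agent.Coprime.Sylow
import Cfsg.Agent.PGroups.Basic
import Cfsg.Agent.PGroups.Commutators
import Mathlib

/-!
For odd `p`, a `p'`-group of operators of a `p`-group fixing all elements of order `p` is trivial.
-/

set_option linter.style.haveILetI false
set_option linter.unusedSectionVars false

namespace Cfsg.Lib.GaschutzYen

open Subgroup
open scoped commutatorElement

variable {G : Type*} [Group G] [Finite G] {p : ℕ} [hp : Fact p.Prime]

theorem le_centralizer_of_omega (hp2 : p ≠ 2) {R : Subgroup G} (n : ℕ) :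
    ∀ {Q : Subgroup G}, Nat.card Q = n → IsPGroup p Q → R ≤ normalizer (Q : Set G) →
      (Nat.card R).Coprime p → (∀ q ∈ Q, q ^ p = 1 → ∀ r ∈ R, r * q = q * r) →
      R ≤ centralizer (Q : Set G) := by
  induction n using Nat.strong_induction_on with
  | _ n ih =>
  intro Q hn hQ hRQ hR hfix
  have hcop : (Nat.card R).Coprime (Nat.card Q) := by
    obtain ⟨k, hk⟩ := IsPGroup.iff_card.mp hQ
    rw [hk]; exact hR.pow_right k
  have hsol : Group.IsSolvable Q := by haveI := hQ.isNilpotent; infer_instance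
  have ihs : ∀ S : Subgroup G, S ≤ Q → S ≠ Q → R ≤ normalizer (S : Set G) →
      R ≤ centralizer (S : Set G) := fun S hS hne hRS =>
    ih _ (hn ▸ lt_of_le_of_ne (Nat.le_of_dvd Nat.card_pos (card_dvd_of_le hS))
      fun e => hne (eq_of_le_of_card_ge hS e.ge)) rfl (hQ.to_le hS) hRS hR
      (fun q hq => hfix q (hS hq))
  have hQR : ⁅Q, R⁆ ≤ Q := Cfsg.Lib.Coprime.commutator_le_of_le_normalizer hRQ
  have hend : R ≤ centralizer ((⁅Q, R⁆ : Subgroup G) : Set G) → R ≤ centralizer (Q : Set G) := by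
    intro h
    rw [le_centralizer_iff, ← commutator_eq_bot_iff_le_centralizer,
      Cfsg.Lib.Coprime.commutator_commutator_eq hRQ hcop (Or.inr hsol),
      commutator_eq_bot_iff_le_centralizer, le_centralizer_iff] at h
    exact h
  by_cases hne : ⁅Q, R⁆ = Q
  swap
  · exact hend (ihs _ hQR hne (Cfsg.Lib.Coprime.le_normalizer_commutator_right R Q))
  by_cases hQb : Q = ⊥
  · rw [hQb]; exact fun r _ => mem_centralizer_iff.mpr fun x hx => by
      rw [mem_bot.mp hx, one_mul, mul_one]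
  haveI : Nontrivial Q := (nontrivial_iff_ne_bot Q).mpr hQb
  set Φ := (frattini Q).map Q.subtype with hΦ
  have hΦQ : Φ ≤ Q := map_subtype_le _
  have hΦne : Φ ≠ Q := by
    intro h
    have : frattini Q = ⊤ := eq_top_iff.mpr fun x _ => by
      obtain ⟨y, hy, he⟩ := h.ge x.2
      rwa [← Q.subtype_injective he]
    obtain h1 | ⟨M, hM, -⟩ := eq_top_or_exists_le_coatom (⊥ : Subgroup Q)
    · exact bot_ne_top h1
    · exact hM.1 (top_le_iff.mp (this ▸ frattini_le_coatom hM))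
  have hnorm : ∀ g ∈ normalizer (Q : Set G), g ∈ normalizer (Φ : Set G) := fun g hg => by
    have hch : (frattini Q).map (Q.normalizerMonoidHom ⟨g, hg⟩).toMonoidHom = frattini Q :=
      Subgroup.characteristic_iff_map_eq.mp inferInstance _
    refine mem_normalizer_iff.mpr fun x => ⟨?_, ?_⟩
    · rintro ⟨y, hy, rfl⟩
      exact ⟨Q.normalizerMonoidHom ⟨g, hg⟩ y, hch.le ⟨y, hy, rfl⟩, rfl⟩
    · rintro ⟨y, hy, he⟩
      obtain ⟨z, hz, rfl⟩ := hch.ge hy
      have he' : g * (z : G) * g⁻¹ = g * x * g⁻¹ := he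
      exact ⟨z, hz, mul_left_cancel (mul_right_cancel he')⟩
  have hΦR : R ≤ centralizer (Φ : Set G) := ihs Φ hΦQ hΦne fun r hr => hnorm r (hRQ hr)
  have hfixΦ : ∀ m ∈ Φ, ∀ r ∈ R, r * m * r⁻¹ = m := fun m hm r hr => by
    rw [← mem_centralizer_iff.mp (hΦR hr) m hm, mul_inv_cancel_right]
  -- `Φ(Q)` is central
  have hcen : Q ≤ centralizer (Φ : Set G) := by
    rw [← hne, commutator_le]
    intro q hq a ha
    refine mem_centralizer_iff.mpr fun m hm => ?_
    have hmem : q⁻¹ * m * q ∈ Φ := (mem_normalizer_iff''.mp (hnorm q (le_normalizer hq)) m).mp hm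
    have e1 : a⁻¹ * (q⁻¹ * m * q) * a = q⁻¹ * m * q := by
      have := hfixΦ _ hmem a ha
      calc a⁻¹ * (q⁻¹ * m * q) * a = a⁻¹ * (a * (q⁻¹ * m * q) * a⁻¹) * a := by rw [this]
        _ = _ := by group
    have e2 : a * m * a⁻¹ = m := hfixΦ m hm a ha
    rw [commutatorElement_def]
    calc m * (q * a * q⁻¹ * a⁻¹) = q * (a * (a⁻¹ * (q⁻¹ * m * q) * a)) * q⁻¹ * a⁻¹ := by group
      _ = q * (a * (q⁻¹ * m * q)) * q⁻¹ * a⁻¹ := by rw [e1]
      _ = q * a * q⁻¹ * a⁻¹ * (a * m * a⁻¹) := by group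
      _ = q * a * q⁻¹ * a⁻¹ * m := by rw [e2]
  have hcq : ∀ x : Q, (x : Q) ∈ frattini Q → x ∈ center Q := fun x hx =>
    mem_center_iff.mpr fun y => Subtype.ext
      ((mem_centralizer_iff.mp (hcen y.2) x (mem_map_of_mem Q.subtype hx)).symm)
  have hcom : ∀ x y : Q, ⁅x, y⁆ ∈ center Q := fun x y => hcq _
    (Cfsg.Lib.PGroups.commutator_le_frattini hQ (commutator_mem_commutator (mem_top x) (mem_top y)))
  have hexp : ∀ x y : Q, ⁅x, y⁆ ^ p = 1 := fun x y => by
    rw [← Cfsg.Lib.PGroups.commutator_pow_left_of_commute (mem_center_iff.mp (hcom x y) x).symm,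
      commutatorElement_eq_one_iff_mul_comm]
    exact (mem_center_iff.mp (hcq _ (Cfsg.Lib.PGroups.pow_mem_frattini hQ x)) y).symm
  refine hend (le_centralizer_iff.mp ?_)
  rw [commutator_le]
  intro q hq a ha
  have hq' : a * q⁻¹ * a⁻¹ ∈ Q := (mem_normalizer_iff.mp (hRQ ha) _).mp (inv_mem hq)
  have hw : ⁅q, a⁆ = ((⟨q, hq⟩ * ⟨_, hq'⟩ : Q) : G) := by
    rw [commutatorElement_def, Subgroup.coe_mul]; group
  have hp1 : ⁅q, a⁆ ^ p = 1 := by
    obtain ⟨k, hk⟩ := Cfsg.Lib.PGroups.dvd_choose_two hp.out hp2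
    rw [hw, ← Subgroup.coe_pow, Cfsg.Lib.PGroups.mul_pow_of_central (hcom _ _), hk, pow_mul, hexp,
      one_pow, mul_one, Subgroup.coe_mul, Subgroup.coe_pow, Subgroup.coe_pow]
    show q ^ p * (a * q⁻¹ * a⁻¹) ^ p = 1
    rw [conj_pow, inv_pow, hfixΦ _ (inv_mem (show q ^ p ∈ Φ from
      ⟨(⟨q, hq⟩ : Q) ^ p, Cfsg.Lib.PGroups.pow_mem_frattini hQ _, rfl⟩)) a ha, mul_inv_cancel]
  exact mem_centralizer_iff.mpr fun r hr =>
    hfix _ (hw ▸ SetLike.coe_mem _) hp1 r hr

end Cfsg.Lib.GaschutzYen
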